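import Cfsg.Agent.Th5.G2

/-! The universal Schmidt group (S4395). -/

set_option autoImplicit false
open Subgroup Cfsg CF.BG CF.BG2 CF.Pgp
open scoped commutatorElement

namespace CF.Th5

variable {G : Type*} [Group G] [Finite G] {K : Type*} [Field K] [Finite K] {p q r a : ℕ} {ζ : K}
  {P R : Subgroup G} {y : G} {π : G → K}

omit [Finite G] in
theorem SG0.sd (h : SG0 p q r P y) : SDProd P (zpowers y) (P ⊔ zpowers y) :=
  SDProd.mk' h.crit.norm (h.crit.pi.inf_eq_bot h.crit.pi')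

omit [Finite G] in
theorem SG0.card (h : SG0 p q r P y) : ♯(P ⊔ zpowers y) = ♯P * q ^ r := by
  rw [← h.sd.card, Nat.card_zpowers, h.ord]

theorem exists_sg0 (hp : p.Prime) (hq : q.Prime) (hpq : p ≠ q) (h1 : ¬ NPC p (⊤ : Subgroup G))
    (h2 : ∀ H : Subgroup G, H ≠ ⊤ → NPC p H) {t : ℕ} (c : Nat.card G = p ^ t * q ^ r) :
    ∃ (P : Subgroup G) (y : G), SG0 p q r P y ∧ P ⊔ zpowers y = ⊤ := by
  obtain ⟨S, hS⟩ := exists_syl p (⊤ : Subgroup G)
  obtain ⟨s, Q, X, hs, sp, -, -, kX, cX, cr⟩ := exists_crit_of_not_npc hp hS h1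
  obtain ⟨y, rfl⟩ := cX.exists_gen
  have top : Q ⊔ zpowers y = ⊤ := by
    by_contra e
    exact cr.nc ((h2 _ e).cent le_sup_left cr.pi le_sup_right cr.pi' cr.norm)
  have sd := SDProd.mk' cr.norm (cr.pi.inf_eq_bot cr.pi')
  have e := sd.card
  rw [top, card_top', c] at e
  have y1 : y ≠ 1 := fun e => cr.nc (by simp [e])
  obtain rfl : s = q := by
    have : s ∣ p ^ t * q ^ r :=
      e ▸ (kX.dvd_card (by simpa using y1)).mul_left _
    rcases (Nat.Prime.dvd_mul hs).1 this with d | d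
    · exact absurd ((Nat.prime_dvd_prime_iff_eq hs hp).1 (hs.dvd_of_dvd_pow d)) sp
    · exact (Nat.prime_dvd_prime_iff_eq hs hq).1 (hs.dvd_of_dvd_pow d)
  have l := congrArg (logn s) e
  rw [logn_mul (card_ne_zero' _) (card_ne_zero' _), logn_mul (pow_ne_zero _ hp.ne_zero)
    (pow_ne_zero _ hq.ne_zero), logn_pow hq, logn_eq_zero (cr.pi.of_single_ne hpq),
    logn_eq_zero ((piNat_pow_self hp t).to_compl_single (by simpa using hpq.symm))] at l
  refine ⟨Q, y, ⟨cr, by rw [← Nat.card_zpowers, kX.card_eq]; congr 1; omega, ?_⟩, top⟩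
  have lt := zpowers_pow_lt hq (piGrp_zpowers.1 kX) y1
  have n := lt.le.trans cr.norm
  refine (h2 (Q ⊔ zpowers (y ^ s)) fun e' => ?_).cent le_sup_left cr.pi le_sup_right
    (cr.pi'.le lt.le) n (mem_zpowers _)
  have h3 := (SDProd.mk' n (cr.pi.inf_eq_bot (cr.pi'.le lt.le))).card
  rw [e', ← top, ← sd.card] at h3
  exact (card_lt lt).ne (Nat.eq_of_mul_eq_mul_left (card_pos' Q) h3)

theorem SG0.min (h : SG0 p q r P y) (hq : q.Prime) (top : P ⊔ zpowers y = ⊤) :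
    ¬ NPC p (⊤ : Subgroup G) ∧ ∀ H : Subgroup G, H ≠ ⊤ → NPC p H := by
  have cr := h.crit
  refine ⟨fun n => cr.nc (n.cent le_top cr.pi le_top cr.pi' cr.norm), fun H hH => ?_⟩
  have sd := top ▸ h.sd
  have s : Sol (⊤ : Subgroup G) := sd.sol cr.pi.sol (cyc_zpowers y).sol
  obtain ⟨T, hT⟩ := (s.mono (le_top : H ≤ ⊤)).exists_hall ({p}ᶜ : Set ℕ)
  obtain ⟨g, -, hg⟩ := (sd.hall_right cr.pi.compl_compl cr.pi').cj_le s le_top hT.pi
  have hT' := hT.cj g
  have ne : BG.cj g H ≠ ⊤ := by simpa using hH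
  suffices NPC p (BG.cj g H) by rwa [NPC, ← cj_O, hall_cj] at this
  generalize BG.cj g H = H at hT' ne
  generalize BG.cj g T = T at hT' hg
  have hR : Syl p (H ⊓ P) H := (sd.hall_left cr.pi cr.pi').inf_of_norm le_top
    (le_top.trans sd.normal.norm)
  have e := hR.sup_eq hT'
  have c : T ≤ 𝐂 (H ⊓ P) := by
    rcases hg.eq_or_lt with rfl | lt
    · refine cr.min _ (lt_of_le_of_ne inf_le_right fun e' => ne ?_)
        (norm_inf (norm_of_le hT'.le) cr.norm)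
      rw [← e, e', top]
    · exact (le_zpowers_pow hq (by rw [PiElt, h.ord]; exact piNat_pow_self hq r) lt).trans
        ((zpowers_le.2 h.cq).trans (cent_anti inf_le_right))
  exact hT'.hall_O (by rw [← e]; exact sup_le (norm_of_cent' c) (le_norm_self T))

omit [Finite G] in
theorem SG0.sub (h : SG0 p q r P y) {L : Subgroup G} (l : P ≤ L) (hy : y ∈ L) :
    SG0 p q r (P.subgroupOf L) ⟨y, hy⟩ := by
  have i := L.subtype_injective
  have e1 := map_subgroupOf l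
  have e2 : (zpowers (⟨y, hy⟩ : L)).map L.subtype = zpowers y := MonoidHom.map_zpowers _ _
  have cr := h.crit
  refine ⟨⟨by rw [← piGrp_map_iff i, e1]; exact cr.pi, by rw [← piGrp_map_iff i, e2]; exact cr.pi',
    by rw [← map_norm_iff i, e1, e2]; exact cr.norm, by rw [← map_cent_iff i, e1, e2]; exact cr.nc,
    fun R lt n => ?_⟩, by rw [← h.ord]; exact orderOf_mk _ _, ?_⟩
  · rw [← map_cent_iff i, e2]
    exact cr.min _ (e1 ▸ (map_lt_map_iff_of_injective i).2 lt) (e2 ▸ map_norm n _)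
  · exact mem_cent.2 fun x hx => Subtype.ext (mem_cent.1 h.cq x hx)

theorem amalgam {G' : Type*} [Group G'] [Finite G'] {P' : Subgroup G'} {y' : G'} {π' : G' → K}
    (f : Fd p q a ζ) (h : SG p q r ζ P y π) (h' : SG p q r ζ P' y' π')
    (top : P ⊔ zpowers y = ⊤) (top' : P' ⊔ zpowers y' = ⊤)
    (c : ♯P = p ^ (if a % 2 = 1 then a else 3 * a / 2)) :
    ∃ φ : G →* G', Function.Surjective φ ∧ φ.ker ≤ center G := by
  let H : Subgroup (G × G') :=
    { carrier := {x | x.1 ∈ P ∧ x.2 ∈ P' ∧ π x.1 = π' x.2}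
      one_mem' := ⟨P.one_mem, P'.one_mem, h.one.trans h'.one.symm⟩
      mul_mem' := fun {x z} hx hz => ⟨P.mul_mem hx.1 hz.1, P'.mul_mem hx.2.1 hz.2.1, by
        rw [Prod.fst_mul, Prod.snd_mul, h.mul _ hx.1 _ hz.1, h'.mul _ hx.2.1 _ hz.2.1, hx.2.2,
          hz.2.2]⟩
      inv_mem' := fun {x} hx => ⟨P.inv_mem hx.1, P'.inv_mem hx.2.1, by
        rw [Prod.fst_inv, Prod.snd_inv, h.inv hx.1, h'.inv hx.2.1, hx.2.2]⟩ }
  have o : orderOf (y, y') = q ^ r := by rw [Prod.orderOf_mk, h.ord, h'.ord, Nat.lcm_self]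
  have kH : PiGrp {p} H := piGrp_of_forall_elt fun x hx => by
    have h1 := h.crit.pi.elt hx.1
    have h2 := h'.crit.pi.elt hx.2.1
    exact (PiNat.mul h1 h2).dvd (by rw [Prod.orderOf]; exact Nat.lcm_dvd_mul _ _)
  have ky : PiGrp {p}ᶜ (zpowers (y, y')) := by
    have := h.crit.pi'
    rwa [PiGrp, Nat.card_zpowers, h.ord, ← o, ← Nat.card_zpowers] at this
  have nH : zpowers (y, y') ≤ 𝐍 H := zpowers_le.2 (mem_norm_of_cj_le fun z hz => by
    obtain ⟨x, hx, rfl⟩ := mem_cj_iff.1 hz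
    exact ⟨h.cj hx.1, h'.cj hx.2.1, (h.conj _ hx.1).trans (hx.2.2 ▸ (h'.conj _ hx.2.1).symm)⟩)
  obtain ⟨R, l, cr⟩ := exists_crit kH ky nH fun cc => by
    obtain ⟨x, hx, e⟩ := h.surj 1
    obtain ⟨x', hx', e'⟩ := h'.surj 1
    have h1 := congrArg Prod.fst (mem_cent.1 (cc (mem_zpowers _)) (x, x') ⟨hx, hx', e.trans e'.symm⟩)
    have h2 := h.conj x hx
    rw [show y * x = x * y from h1.symm, mul_inv_cancel_right, e, mul_one] at h2
    exact f.prim.ne_one f.qp.one_lt h2.symm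
  have s0 : SG0 p q r R (y, y') := ⟨cr, o, mem_cent.2 fun x hx =>
    Prod.ext (mem_cent.1 h.cq _ (l hx).1) (mem_cent.1 h'.cq _ (l hx).2.1)⟩
  obtain ⟨_, _, -, s1⟩ := s0.exists_sg f
  have cR := s1.card_le f
  let U : AddSubgroup K :=
    { carrier := {t | ∃ x ∈ R, π x.1 = t}
      zero_mem' := ⟨1, R.one_mem, h.one⟩
      add_mem' := by
        rintro _ _ ⟨x, hx, rfl⟩ ⟨z, hz, rfl⟩
        exact ⟨x * z, R.mul_mem hx hz, h.mul _ (l hx).1 _ (l hz).1⟩
      neg_mem' := by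
        rintro _ ⟨x, hx, rfl⟩
        exact ⟨x⁻¹, R.inv_mem hx, h.inv (l hx).1⟩ }
  have hU : U = ⊤ := by
    refine (f.irr ?_).resolve_left fun e => cr.nc (cent_symm fun x hx => ?_)
    · rintro _ ⟨x, hx, rfl⟩
      exact ⟨_, s0.cj hx, h.conj _ (l hx).1⟩
    · have e1 : π x.1 = 0 := AddSubgroup.mem_bot.1 (e ▸ ⟨x, hx, rfl⟩)
      have c1 := mem_cent.1 (h.crit.cent_Phi (mem_zpowers y)) _ ((h.ker _ (l hx).1).1 e1)
      have c2 := mem_cent.1 (h'.crit.cent_Phi (mem_zpowers y')) _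
        ((h'.ker _ (l hx).2.1).1 ((l hx).2.2 ▸ e1))
      rw [cent_zpowers, mem_cent1]
      exact Prod.ext c1 c2
  have hU' : ∀ t, ∃ x ∈ R, π x.1 = t := fun t => (hU ▸ AddSubgroup.mem_top t : t ∈ U)
  have m1 : R.map (MonoidHom.fst G G') = P :=
    eq_of_le_sup_Phi (by rintro _ ⟨x, hx, rfl⟩; exact (l hx).1) fun g hg => by
      obtain ⟨x, hx, e⟩ := hU' (π g)
      rw [show g = x.1 * (x.1⁻¹ * g) by group]
      refine mul_mem_sup ⟨x, hx, rfl⟩ ((h.ker _ (P.mul_mem (P.inv_mem (l hx).1) hg)).1 ?_)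
      rw [h.mul _ (P.inv_mem (l hx).1) _ hg, h.inv (l hx).1, e, neg_add_cancel]
  have m2 : R.map (MonoidHom.snd G G') = P' :=
    eq_of_le_sup_Phi (by rintro _ ⟨x, hx, rfl⟩; exact (l hx).2.1) fun g hg => by
      obtain ⟨x, hx, e⟩ := hU' (π' g)
      rw [show g = x.2 * (x.2⁻¹ * g) by group]
      refine mul_mem_sup ⟨x, hx, rfl⟩ ((h'.ker _ (P'.mul_mem (P'.inv_mem (l hx).2.1) hg)).1 ?_)
      rw [h'.mul _ (P'.inv_mem (l hx).2.1) _ hg, h'.inv (l hx).2.1, ← (l hx).2.2, e, neg_add_cancel]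
  set L := R ⊔ zpowers (y, y') with hL
  have s1 : Function.Surjective ((MonoidHom.fst G G').comp L.subtype) := by
    rw [← MonoidHom.range_eq_top, MonoidHom.range_comp, range_subtype, hL, Subgroup.map_sup, m1,
      MonoidHom.map_zpowers]; exact top
  have s2 : Function.Surjective ((MonoidHom.snd G G').comp L.subtype) := by
    rw [← MonoidHom.range_eq_top, MonoidHom.range_comp, range_subtype, hL, Subgroup.map_sup, m2,
      MonoidHom.map_zpowers]; exact top'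
  have b1 := s1.bijective_of_nat_card_le (by
    rw [← card_top' (G := G), ← top, h.toSG0.card, s0.card, c]
    exact Nat.mul_le_mul_right _ cR)
  let e := MulEquiv.ofBijective _ b1
  refine ⟨((MonoidHom.snd G G').comp L.subtype).comp e.symm.toMonoidHom,
    s2.comp e.symm.surjective, fun g hg => ?_⟩
  obtain ⟨⟨z, hz⟩, rfl⟩ := e.surjective g
  have z2 : z.2 = 1 := by simpa using hg
  obtain ⟨x, hx, _, ⟨i, rfl⟩, rfl⟩ := (mem_sup_norm' cr.norm).1 hz
  have z3 : x.2 * y' ^ i = 1 := z2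
  have z4 : y' ^ i = 1 := eq_one_of_mem_bot h'.toSG0.sd.inf (mem_inf.2
    ⟨eq_inv_of_mul_eq_one_right z3 ▸ P'.inv_mem (l hx).2.1, zpow_mem_zpowers _ _⟩)
  have z5 : y ^ i = 1 := by
    rw [← orderOf_dvd_iff_zpow_eq_one] at z4 ⊢
    rwa [h.ord, ← h'.ord]
  rw [z4, mul_one] at z3
  have z6 := (h.ker _ (l hx).1).1 (by rw [(l hx).2.2, z3, h'.one])
  change x.1 * y ^ i ∈ center G
  rw [z5, mul_one, ← centralizer_univ, ← coe_top, ← top, cent_sup]
  exact mem_inf.2 ⟨h.crit.Phi_cent z6, cent_symm h.crit.cent_Phi z6⟩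

/-- a Heisenberg type group -/
@[ext] structure Hs {K : Type*} [Field K] (β : K →+ K →+ K) where
  v : K
  w : K

namespace Hs
variable {β : K →+ K →+ K}

instance : Mul (Hs β) := ⟨fun x z => ⟨x.v + z.v, x.w + z.w + β x.v z.v⟩⟩
instance : One (Hs β) := ⟨⟨0, 0⟩⟩
instance : Inv (Hs β) := ⟨fun x => ⟨-x.v, -x.w + β x.v x.v⟩⟩
omit [Finite K] in
@[simp] theorem mul_v (x z : Hs β) : (x * z).v = x.v + z.v := rfl
omit [Finite K] in
@[simp] theorem mul_w (x z : Hs β) : (x * z).w = x.w + z.w + β x.v z.v := rfl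
omit [Finite K] in
@[simp] theorem one_v : (1 : Hs β).v = 0 := rfl
omit [Finite K] in
@[simp] theorem one_w : (1 : Hs β).w = 0 := rfl
omit [Finite K] in
@[simp] theorem inv_v (x : Hs β) : x⁻¹.v = -x.v := rfl
omit [Finite K] in
@[simp] theorem inv_w (x : Hs β) : x⁻¹.w = -x.w + β x.v x.v := rfl

instance : Group (Hs β) := Group.ofLeftAxioms
  (fun x y z => by ext <;> simp <;> abel) (fun x => by ext <;> simp) (fun x => by ext <;> simp)

def eqv (β : K →+ K →+ K) : Hs β ≃ K × K := ⟨fun x => (x.v, x.w), fun x => ⟨x.1, x.2⟩,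
  fun _ => rfl, fun _ => rfl⟩

instance : Finite (Hs β) := Finite.of_equiv _ (eqv β).symm

def aut (z0 : ζ ≠ 0) (hβ : ∀ u v, β (ζ * u) (ζ * v) = β u v) : MulAut (Hs β) where
  toFun x := ⟨ζ * x.v, x.w⟩
  invFun x := ⟨ζ⁻¹ * x.v, x.w⟩
  left_inv x := by ext <;> simp [z0]
  right_inv x := by ext <;> simp [z0]
  map_mul' x z := by ext <;> simp [mul_add, hβ]

end Hs

theorem exists_big.{u} {K : Type u} [Field K] [Finite K] {ζ : K} (f : Fd p q a ζ) (hpq : p ≠ q)
    (hr : 1 ≤ r) (β : K →+ K →+ K) (hβ : ∀ u v, β (ζ * u) (ζ * v) = β u v) {n : ℕ}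
    (hn : ∀ A : AddSubgroup K, (∀ u v, β u v - β v u ∈ A) → n ≤ Nat.card A) :
    ∃ (G : Type u) (_ : Group G) (_ : Finite G) (P : Subgroup G) (y : G),
      SG0 p q r P y ∧ n * p ^ a ≤ ♯P := by
  have : NeZero (q ^ r) := ⟨pow_ne_zero _ f.qp.ne_zero⟩
  let α := Hs.aut f.ne_zero hβ
  have αp : ∀ (m : ℕ) (x : Hs β), (α ^ m) x = ⟨ζ ^ m * x.v, x.w⟩ := fun m x => by
    induction m with
    | zero => simp
    | succ m ih => rw [pow_succ', MulAut.mul_apply, ih, pow_succ', mul_assoc]; rfl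
  have αq : α ^ q = 1 := MulEquiv.ext fun x => by rw [αp, f.prim.pow_eq_one, one_mul]; rfl
  let C := MulAut (Hs β) × Multiplicative (ZMod (q ^ r))
  let G := Hs β ⋊[MonoidHom.fst _ (Multiplicative (ZMod (q ^ r)))] C
  have : Finite G := Finite.of_equiv _ SemidirectProduct.equivProd.symm
  let y : G := SemidirectProduct.inr (α, Multiplicative.ofAdd 1)
  let i : Hs β →* G := SemidirectProduct.inl
  have ii : Function.Injective i := SemidirectProduct.inl_injective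
  have cy : ∀ (m : ℕ) x, y ^ m * i x * (y ^ m)⁻¹ = i ((α ^ m) x) := fun m x => by
    rw [← map_pow, ← map_inv]
    exact (SemidirectProduct.inl_aut _ x).symm
  have cy1 : ∀ x, y * i x * y⁻¹ = i ⟨ζ * x.v, x.w⟩ := fun x => by
    have := cy 1 x
    rwa [pow_one, pow_one] at this
  have o : orderOf y = q ^ r := by
    rw [orderOf_injective _ SemidirectProduct.inr_injective, Prod.orderOf_mk,
      orderOf_ofAdd_eq_addOrderOf, ZMod.addOrderOf_one]
    exact Nat.lcm_eq_right ((orderOf_dvd_of_pow_eq_one αq).trans (dvd_pow_self q (by omega)))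
  have kH : PiGrp {p} i.range := piGrp_of_card (k := a + a) f.pp (by
    rw [← Nat.card_congr (MonoidHom.ofInjective ii).toEquiv, Nat.card_congr (Hs.eqv β),
      Nat.card_prod, f.card, pow_add])
  have ky : PiGrp {p}ᶜ (zpowers y) :=
    (piGrp_of_card f.qp (by rw [Nat.card_zpowers, o])).of_single_ne hpq.symm
  obtain ⟨R, l, cr⟩ := exists_crit kH ky (zpowers_le.2 (mem_norm_of_cj_le fun z hz => by
    obtain ⟨_, ⟨x, rfl⟩, rfl⟩ := mem_cj_iff.1 hz
    exact ⟨_, (cy1 x).symm⟩)) fun cc => by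
      have h1 := mem_cent.1 (cc (mem_zpowers _)) _ ⟨⟨1, 0⟩, rfl⟩
      have h2 := cy1 ⟨1, 0⟩
      rw [← h1, mul_inv_cancel_right] at h2
      exact f.prim.ne_one f.qp.one_lt (by simpa using (congrArg Hs.v (ii h2)).symm)
  have s0 : SG0 p q r R y := ⟨cr, o, mem_cent.2 fun z hz => by
    obtain ⟨x, rfl⟩ := l hz
    have := cy q x
    rw [αq, MulAut.one_apply] at this
    rw [← this, inv_mul_cancel_right, this]⟩
  refine ⟨G, inferInstance, inferInstance, R, y, s0, ?_⟩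
  set R' := R.comap i with hR'
  have cR : ♯R = ♯R' := by rw [← card_map ii, map_comap_eq_self l]
  let ρ : R' →* Multiplicative K := MonoidHom.mk' (fun x => Multiplicative.ofAdd x.1.v) fun _ _ => rfl
  have sρ : ρ.range.toAddSubgroup' = ⊤ := by
    refine (f.irr ?_).resolve_left fun e => cr.nc (cent_symm fun z hz => ?_)
    · rintro t ⟨⟨x, hx⟩, e⟩
      refine ⟨⟨⟨ζ * x.v, x.w⟩, ?_⟩, congrArg (fun s => Multiplicative.ofAdd (ζ * s.toAdd)) e⟩
      rw [hR', mem_comap, ← cy1]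
      exact s0.cj hx
    · obtain ⟨x, rfl⟩ := l hz
      have e1 : x.v = 0 := AddSubgroup.mem_bot.1 (e ▸ ⟨⟨x, hz⟩, rfl⟩)
      have := cy1 x
      rw [e1, mul_zero, ← e1] at this
      rw [cent_zpowers, mem_cent1, ← mul_inv_eq_iff_eq_mul.1 this]
  have sρ' : ∀ t : K, ∃ x ∈ R', x.v = t := fun t => by
    obtain ⟨⟨x, hx⟩, e⟩ : t ∈ ρ.range.toAddSubgroup' := sρ ▸ AddSubgroup.mem_top t
    exact ⟨x, hx, e⟩
  let A : AddSubgroup K :=
    { carrier := {t | (⟨0, t⟩ : Hs β) ∈ R'}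
      zero_mem' := R'.one_mem
      add_mem' := fun {s t} hs ht => by
        have := R'.mul_mem hs ht
        rwa [show (⟨0, s⟩ : Hs β) * ⟨0, t⟩ = ⟨0, s + t⟩ by ext <;> simp] at this
      neg_mem' := fun {s} hs => by
        have := R'.inv_mem hs
        rwa [show (⟨0, s⟩ : Hs β)⁻¹ = ⟨0, -s⟩ by ext <;> simp] at this }
  have h1 := hn A fun u v => by
    obtain ⟨x, hx, rfl⟩ := sρ' u
    obtain ⟨z, hz, rfl⟩ := sρ' v
    have := R'.mul_mem (R'.mul_mem hx hz) (R'.inv_mem (R'.mul_mem hz hx))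
    rwa [show x * z * (z * x)⁻¹ = ⟨0, β x.v z.v - β z.v x.v⟩ by ext <;> simp <;> abel] at this
  have h2 : Nat.card A ≤ Nat.card ρ.ker := Nat.card_le_card_of_injective
    (fun t => ⟨⟨⟨0, t.1⟩, t.2⟩, rfl⟩) fun s t e =>
      Subtype.ext (congrArg (fun x : ρ.ker => x.1.1.w) e)
  have h3 : ρ.range = ⊤ := eq_top_iff.2 fun t _ => (sρ ▸ AddSubgroup.mem_top t.toAdd :
    t.toAdd ∈ ρ.range.toAddSubgroup')
  rw [cR, ← ρ.ker.card_mul_index, index_ker, h3, card_top, ← f.card]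
  exact Nat.mul_le_mul (h1.trans h2) le_rfl

theorem exists_max.{u} {K : Type u} [Field K] [Finite K] {ζ : K} (f : Fd p q a ζ) (hpq : p ≠ q)
    (hr : 1 ≤ r) : ∃ (G : Type u) (_ : Group G) (_ : Finite G) (P : Subgroup G) (y : G),
      SG0 p q r P y ∧ P ⊔ zpowers y = ⊤ ∧ ♯P = p ^ (if a % 2 = 1 then a else 3 * a / 2) := by
  obtain ⟨G, _, _, P, y, s, c⟩ : ∃ (G : Type u) (_ : Group G) (_ : Finite G) (P : Subgroup G) (y : G),
      SG0 p q r P y ∧ p ^ (if a % 2 = 1 then a else 3 * a / 2) ≤ ♯P := by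
    split_ifs with h
    · simpa using exists_big (n := 1) f hpq hr 0 (fun _ _ => rfl) fun A _ => Nat.card_pos
    · obtain ⟨σ, h1, h2⟩ := f.pairing (by omega)
      rw [show 3 * a / 2 = a / 2 + a by omega, pow_add]
      refine exists_big f hpq hr (AddMonoidHom.mul.flip.comp σ.toAddMonoidHom).flip
        (fun u v => ?_) fun A hA => h2.trans (AddSubgroup.card_le_of_le ?_)
      · simp; linear_combination (u * σ v) * h1
      · rintro _ ⟨x, rfl⟩
        simpa using hA x 1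
  obtain ⟨_, _, -, s1⟩ := s.exists_sg f
  refine ⟨(P ⊔ zpowers y : Subgroup G), inferInstance, inferInstance, _, _,
    s.sub le_sup_left (mem_sup_right (mem_zpowers y)), ?_, by
      rw [card_subgroupOf' le_sup_left]; exact le_antisymm (s1.card_le f) c⟩
  apply map_injective (subtype_injective _)
  rw [Subgroup.map_sup, map_subgroupOf le_sup_left, MonoidHom.map_zpowers, map_top_subtype]
  rfl

end CF.Th5
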