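import Mathlib

/-! Finite field lemmas for the universal Schmidt group (S4395). -/

set_option autoImplicit false

namespace CF.Th5

variable {K : Type*} [Field K] [Finite K] {p q a : ℕ} {ζ : K}

theorem pow_card_subring (S : Subring K) {x : K} (hx : x ∈ S) : x ^ Nat.card S = x := by
  have := Fintype.ofFinite S
  let _ : Field S := (Finite.isField_of_domain S).toField
  have h := FiniteField.pow_card (⟨x, hx⟩ : S)
  rw [Nat.card_eq_fintype_card]
  exact congrArg Subtype.val h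

theorem inv_mem_subring (S : Subring K) {x : K} (hx : x ∈ S) : x⁻¹ ∈ S := by
  by_cases h : x = 0
  · simp [h]
  have h1 := pow_card_subring S hx
  have h2 : 1 < Nat.card S := Finite.one_lt_card
  obtain ⟨n, hn⟩ : ∃ n, Nat.card S = n + 2 := ⟨Nat.card S - 2, by omega⟩
  rw [hn] at h1
  have : x⁻¹ = x ^ n := by
    field_simp
    apply mul_left_cancel₀ h
    rw [mul_one, ← h1]; nth_rewrite 1 [h1]; rw [h1]; linear_combination -h1
  exact this ▸ S.pow_mem hx n

/-- the data of the field `F_p(ζ_q)`. -/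
structure Fd (p q a : ℕ) {K : Type*} [Field K] (ζ : K) : Prop where
  pp : p.Prime
  qp : q.Prime
  card : Nat.card K = p ^ a
  ord : a = orderOf (p : ZMod q)
  prim : IsPrimitiveRoot ζ q

omit [Finite K] in
theorem Fd.ne_zero (h : Fd p q a ζ) : ζ ≠ 0 := h.prim.ne_zero h.qp.ne_zero

theorem Fd.subring (h : Fd p q a ζ) {S : Subring K} (hz : ζ ∈ S) : S = ⊤ := by
  have d : Nat.card S ∣ p ^ a := h.card ▸ S.toAddSubgroup.card_addSubgroup_dvd_card
  obtain ⟨b, hb, e⟩ := (Nat.dvd_prime_pow h.pp).1 d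
  have h1 := pow_card_subring S hz
  have h2 : 1 < Nat.card S := Finite.one_lt_card
  rw [e] at h1 h2
  have h3 : ζ ^ (p ^ b - 1) = 1 := by
    apply mul_left_cancel₀ h.ne_zero
    rw [← pow_succ', mul_one, Nat.sub_add_cancel h2.le, h1]
  have h4 : (p : ZMod q) ^ b = 1 := by
    have := (ZMod.natCast_eq_zero_iff _ _).2 (h.prim.dvd_of_pow_eq_one _ h3)
    rw [Nat.cast_sub h2.le] at this
    push_cast at this
    exact sub_eq_zero.1 this
  have b0 : 0 < b := by
    rcases b with _ | b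
    · simp at h2
    · omega
  have h5 : a ≤ b := Nat.le_of_dvd b0 (h.ord ▸ orderOf_dvd_of_pow_eq_one h4)
  have : S.toAddSubgroup = ⊤ := AddSubgroup.eq_top_of_card_eq _ (by
    rw [h.card, ← le_antisymm hb h5]; exact e)
  exact eq_top_iff.2 fun x _ => (this ▸ AddSubgroup.mem_top x : x ∈ S.toAddSubgroup)

theorem Fd.irr (h : Fd p q a ζ) {A : AddSubgroup K} (hA : ∀ x ∈ A, ζ * x ∈ A) :
    A = ⊥ ∨ A = ⊤ := by
  let S : Subring K :=
    { carrier := {l | ∀ x ∈ A, l * x ∈ A}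
      mul_mem' := fun {u v} hu hv x hx => mul_assoc u v x ▸ hu _ (hv x hx)
      one_mem' := fun x hx => by rwa [one_mul]
      add_mem' := fun {u v} hu hv x hx => add_mul u v x ▸ A.add_mem (hu x hx) (hv x hx)
      zero_mem' := fun x _ => by rw [zero_mul]; exact A.zero_mem
      neg_mem' := fun {u} hu x hx => neg_mul u x ▸ A.neg_mem (hu x hx) }
  have hS : S = ⊤ := h.subring hA
  by_cases c : A = ⊥
  · exact Or.inl c
  obtain ⟨⟨x, hx⟩, x0⟩ := (AddSubgroup.ne_bot_iff_exists_ne_zero).1 c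
  have x0 : x ≠ 0 := fun e => x0 (Subtype.ext e)
  refine Or.inr (eq_top_iff.2 fun z _ => ?_)
  have : z * x⁻¹ * x ∈ A := (hS ▸ Subring.mem_top (z * x⁻¹) : z * x⁻¹ ∈ S) x hx
  rwa [inv_mul_cancel_right₀ x0] at this

theorem Fd.charP (h : Fd p q a ζ) : CharP K p := by
  have := Fintype.ofFinite K
  obtain ⟨r, hr⟩ := CharP.exists K
  obtain ⟨n, hp, e⟩ := FiniteField.card K r
  rw [← Nat.card_eq_fintype_card, h.card] at e
  have : r ∣ p ^ a := e ▸ dvd_pow_self r n.ne_zero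
  exact (Nat.prime_dvd_prime_iff_eq hp h.pp).1 (hp.dvd_of_dvd_pow this) ▸ hr

omit [Finite K] in
theorem exists_hom [Fact p.Prime] [CharP K p] {V : Type*} [AddCommGroup V] [Module (ZMod p) V]
    {v : V} (h : v ≠ 0) : ∃ f : V →+ K, f v ≠ 0 := by
  obtain ⟨g, hg⟩ := not_forall.1 (mt (Module.forall_dual_apply_eq_zero_iff (ZMod p) v).1 h)
  exact ⟨(ZMod.castHom (dvd_refl p) K).toAddMonoidHom.comp g.toAddMonoidHom, fun e =>
    hg ((ZMod.castHom (dvd_refl p) K).injective (e.trans (map_zero _).symm))⟩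

theorem Fd.iso (h : Fd p q a ζ) {V : Type*} [AddCommGroup V] [Nontrivial V] (hp : ∀ v : V, p • v = 0)
    (η : V →+ V) (hq : ∀ v, η^[q] v = v) (h1 : ∃ v, η v ≠ v)
    (irr : ∀ U : AddSubgroup V, (∀ x ∈ U, η x ∈ U) → U = ⊥ ∨ U = ⊤) :
    ∃ (f : V →+ K) (ξ : K), IsPrimitiveRoot ξ q ∧ Function.Bijective f ∧ ∀ v, f (η v) = ξ * f v := by
  have := Fact.mk h.pp
  have := h.charP
  obtain ⟨v0, v1⟩ := exists_ne (0 : V)
  obtain ⟨f, hf⟩ : ∃ f : V →+ K, f v0 ≠ 0 :=
    @exists_hom K _ p _ _ V _ (AddCommGroup.zmodModule hp) v0 v1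
  let F : K → V →+ K := fun ξ => AddMonoidHom.mk' (fun v => ∑ i ∈ Finset.range q, ξ ^ i * f (η^[i] v))
    fun u v => by simp [iterate_map_add, mul_add, Finset.sum_add_distrib]
  have hF : ∀ ξ v, F ξ v = ∑ i ∈ Finset.range q, ξ ^ i * f (η^[i] v) := fun _ _ => rfl
  have sh : ∀ ξ, ξ ^ q = 1 → ∀ v, ξ * F ξ (η v) = F ξ v := fun ξ e v => by
    have h2 := Finset.sum_range_succ (fun i => ξ ^ i * f (η^[i] v)) q
    rw [Finset.sum_range_succ', e, hq] at h2
    simp only [pow_zero, Function.iterate_zero_apply] at h2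
    rw [hF, hF, ← add_right_cancel h2, Finset.mul_sum]
    exact Finset.sum_congr rfl fun i _ => by rw [Function.iterate_succ_apply]; ring
  have tot : ∑ k ∈ Finset.range q, F (ζ ^ k) v0 = q * f v0 := by
    simp only [hF]
    rw [Finset.sum_comm, Finset.sum_eq_single_of_mem 0 (Finset.mem_range.2 h.qp.pos)]
    · simp
    · intro i hi i0
      rw [← Finset.sum_mul]
      have := (h.prim.pow_of_coprime i ((Nat.coprime_comm.1 ((Nat.coprime_of_lt_prime i0
        (Finset.mem_range.1 hi) h.qp))))).geom_sum_eq_zero h.qp.one_lt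
      simp only [← pow_mul] at this ⊢
      simp only [mul_comm _ i, this, zero_mul]
  have : NeZero q := ⟨h.qp.ne_zero⟩
  have q0 : (q : K) ≠ 0 := (h.prim.neZero' (n := q)).out
  obtain ⟨k, hk, k0⟩ := Finset.exists_ne_zero_of_sum_ne_zero (tot ▸ mul_ne_zero q0 hf)
  have e : (ζ ^ k) ^ q = 1 := by rw [← pow_mul, mul_comm, pow_mul, h.prim.pow_eq_one, one_pow]
  have z0 : ζ ^ k ≠ 0 := pow_ne_zero _ h.ne_zero
  have sh' : ∀ v, F (ζ ^ k) (η v) = (ζ ^ k)⁻¹ * F (ζ ^ k) v := fun v => by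
    rw [← sh _ e v, inv_mul_cancel_left₀ z0]
  have inj : Function.Injective (F (ζ ^ k)) := by
    rw [← AddMonoidHom.ker_eq_bot_iff]
    refine (irr _ fun x hx => ?_).resolve_right fun t => k0 ?_
    · rw [AddMonoidHom.mem_ker] at hx ⊢
      rw [sh', hx, mul_zero]
    · exact (t ▸ AddSubgroup.mem_top v0 : v0 ∈ (F (ζ ^ k)).ker)
  have k1 : k ≠ 0 := by
    rintro rfl
    obtain ⟨v, hv⟩ := h1
    exact hv (inj (by rw [sh']; simp))
  have pr := (h.prim.pow_of_coprime k ((Nat.coprime_comm.1 ((Nat.coprime_of_lt_prime k1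
        (Finset.mem_range.1 hk) h.qp))))).inv
  refine ⟨F (ζ ^ k), _, pr, ⟨inj, ?_⟩, sh'⟩
  rw [← AddMonoidHom.range_eq_top]
  refine (Fd.irr ⟨h.pp, h.qp, h.card, h.ord, pr⟩ ?_).resolve_left fun t => k0 ?_
  · rintro _ ⟨v, rfl⟩
    exact ⟨η v, sh' v⟩
  · exact AddSubgroup.mem_bot.1 (t ▸ ⟨v0, rfl⟩)

theorem Fd.half (h : Fd p q a ζ) : Subring.closure {ζ + ζ⁻¹} = ⊤ ∨
    Nat.card K = Nat.card (Subring.closure {ζ + ζ⁻¹}) ^ 2 := by
  set U := Subring.closure {ζ + ζ⁻¹} with hU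
  by_cases c : ζ ∈ U
  · exact Or.inl (h.subring c)
  right
  have hT : ζ + ζ⁻¹ ∈ U := Subring.subset_closure rfl
  let f : U × U →+ K := AddMonoidHom.mk' (fun x => x.1 + ζ * x.2) fun x y => by
    simp only [Prod.fst_add, Prod.snd_add, Subring.coe_add]; ring
  have inj : Function.Injective f := (injective_iff_map_eq_zero f).2 fun ⟨x, y⟩ e => by
    have e : (x : K) + ζ * y = 0 := e
    by_cases y0 : (y : K) = 0
    · rw [y0, mul_zero, add_zero] at e
      exact Prod.ext (Subtype.ext e) (Subtype.ext y0)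
    · refine absurd ?_ c
      rw [show ζ = -x * (y : K)⁻¹ by field_simp; linear_combination e]
      exact U.mul_mem (U.neg_mem x.2) (inv_mem_subring U y.2)
  have sur : f.range = ⊤ := by
    refine (h.irr ?_).resolve_left fun t => one_ne_zero (α := K) ?_
    · rintro _ ⟨⟨x, y⟩, rfl⟩
      refine ⟨(-y, x + ⟨_, hT⟩ * y), ?_⟩
      change -(y : K) + ζ * (x + (ζ + ζ⁻¹) * y) = ζ * (x + ζ * y)
      have := h.ne_zero
      field_simp
      ring
    · exact AddSubgroup.mem_bot.1 (t ▸ ⟨(1, 0), by simp [f]⟩)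
  rw [← Nat.card_congr (Equiv.ofBijective f ⟨inj, AddMonoidHom.range_eq_top.1 sur⟩), Nat.card_prod,
    sq]

theorem exists_fd.{u} (hp : p.Prime) (hq : q.Prime) (hpq : p ≠ q) :
    ∃ (K : Type u) (_ : Field K) (_ : Finite K) (ζ : K), Fd p q (orderOf (p : ZMod q)) ζ := by
  have := Fact.mk hp
  have := Fact.mk hq
  have p0 : (p : ZMod q) ≠ 0 := fun e =>
    hpq ((Nat.prime_dvd_prime_iff_eq hq hp).1 ((ZMod.natCast_eq_zero_iff _ _).1 e)).symm
  have a0 : orderOf (p : ZMod q) ≠ 0 := (isOfFinOrder_iff_pow_eq_one.2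
    ⟨q - 1, by have := hq.two_le; omega, ZMod.pow_card_sub_one_eq_one p0⟩).orderOf_pos.ne'
  let K := ULift.{u} (GaloisField p (orderOf (p : ZMod q)))
  have c : Nat.card K = p ^ orderOf (p : ZMod q) := by
    rw [Nat.card_ulift, GaloisField.card p _ a0]
  have d : q ∣ Nat.card Kˣ := by
    rw [Nat.card_units, c, ← ZMod.natCast_eq_zero_iff, Nat.cast_sub (Nat.one_le_pow _ _ hp.pos)]
    push_cast
    rw [pow_orderOf_eq_one, sub_self]
  obtain ⟨z, hz⟩ := exists_prime_orderOf_dvd_card' q d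
  refine ⟨K, inferInstance, inferInstance, z, hp, hq, c, rfl, ?_⟩
  have := IsPrimitiveRoot.orderOf (z : K)
  rwa [orderOf_units, hz] at this

/-- the invariant pairing with large commutator image. -/
theorem Fd.pairing (h : Fd p q a ζ) (ev : a % 2 = 0) : ∃ σ : K →+* K, ζ * σ ζ = 1 ∧
    p ^ (a / 2) ≤ Nat.card (AddMonoidHom.id K - σ.toAddMonoidHom).range := by
  have := Fact.mk h.pp
  have := Fact.mk h.qp
  have := h.charP
  have := Fintype.ofFinite K
  obtain ⟨b, rfl⟩ : ∃ b, a = 2 * b := ⟨a / 2, by omega⟩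
  rw [show 2 * b / 2 = b by omega]
  have b0 : 0 < b := by
    rcases b with _ | b
    · have := h.card
      have h2 : 1 < Nat.card K := Finite.one_lt_card
      rw [this] at h2; simp at h2
    · omega
  refine ⟨iterateFrobenius K p b, ?_, ?_⟩
  · rw [iterateFrobenius_def, ← pow_succ']
    apply (h.prim.pow_eq_one_iff_dvd _).2
    rw [← ZMod.natCast_eq_zero_iff]
    push_cast
    have h1 : ((p : ZMod q) ^ b) ^ 2 = 1 := by
      rw [← pow_mul, mul_comm, h.ord, pow_orderOf_eq_one]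
    rcases sq_eq_one_iff.1 h1 with e | e
    · have := Nat.le_of_dvd b0 (h.ord ▸ orderOf_dvd_of_pow_eq_one e)
      omega
    · rw [e]; ring
  · set φ := AddMonoidHom.id K - (iterateFrobenius K p b).toAddMonoidHom
    have h1 := φ.ker.card_mul_index
    rw [AddSubgroup.index_ker, h.card] at h1
    have h2 : Nat.card φ.ker ≤ p ^ b := by
      classical
      have hb : 1 < p ^ b := Nat.one_lt_pow b0.ne' h.pp.one_lt
      have := Polynomial.card_roots' (Polynomial.X ^ p ^ b - Polynomial.X : Polynomial K)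
      rw [FiniteField.X_pow_card_sub_X_natDegree_eq K hb] at this
      refine le_trans ?_ ((Multiset.toFinset_card_le _).trans this)
      rw [← Nat.card_eq_finsetCard]
      refine Nat.card_le_card_of_injective (fun x => ⟨x.1, ?_⟩) fun x y e =>
        Subtype.ext (Subtype.mk.inj e)
      have hx : x.1 - x.1 ^ p ^ b = 0 := x.2
      rw [Multiset.mem_toFinset, Polynomial.mem_roots (FiniteField.X_pow_card_sub_X_ne_zero K hb)]
      simp [(sub_eq_zero.1 hx).symm]
    by_contra h3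
    have := Nat.mul_lt_mul_of_le_of_lt h2 (not_le.1 h3) (Nat.pow_pos h.pp.pos)
    rw [h1, ← pow_add, ← two_mul] at this
    exact lt_irrefl _ this

end CF.Th5
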