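import Cfsg.Agent.Th5.G1
import Cfsg.Agent.Pgp.C

/-! Schmidt groups over the field `F_p(ζ_q)` (S4395). -/

set_option autoImplicit false
open Subgroup Cfsg CF.BG CF.BG2 CF.Pgp
open scoped commutatorElement

namespace CF.Th5

variable {G : Type*} [Group G] [Finite G] {K : Type*} [Field K] [Finite K] {p q r a : ℕ} {ζ : K}
  {P R : Subgroup G} {y : G} {π : G → K}

structure SG0 (p q r : ℕ) (P : Subgroup G) (y : G) : Prop where
  crit : Crit p P (zpowers y)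
  ord : orderOf y = q ^ r
  cq : y ^ q ∈ 𝐂 P

structure SG (p q r : ℕ) (ζ : K) (P : Subgroup G) (y : G) (π : G → K) : Prop
    extends SG0 p q r P y where
  mul : ∀ x ∈ P, ∀ x' ∈ P, π (x * x') = π x + π x'
  surj : ∀ v, ∃ x ∈ P, π x = v
  ker : ∀ x ∈ P, π x = 0 ↔ x ∈ 𝚽 P
  conj : ∀ x ∈ P, π (y * x * y⁻¹) = ζ * π x

omit [Finite G] in
theorem SG0.cj (h : SG0 p q r P y) {x : G} (hx : x ∈ P) : y * x * y⁻¹ ∈ P :=
  conj_mem_of_norm (h.crit.norm (mem_zpowers y)) hx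

theorem SG0.exists_sg (h : SG0 p q r P y) (f : Fd p q a ζ) :
    ∃ y' π, zpowers y' = zpowers y ∧ SG p q r ζ P y' π := by
  classical
  have k := h.crit.pi
  have nP : P ≤ 𝐍 (𝚽 P) := (Phi_normal P).norm
  have yn : y ∈ 𝐍 (𝚽 P) := norm_Phi P (h.crit.norm (mem_zpowers y))
  have ab := k.abelem_qt_Phi
  let _ : CommGroup (qt (𝚽 P) P) :=
    { (inferInstance : Group (qt (𝚽 P) P)) with
      mul_comm := fun u v => Subtype.ext (ab.abel.mul_comm u.2 v.2) }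
  let V := Additive (qt (𝚽 P) P)
  let ρ : G → V := fun x => if hx : x ∈ P then Additive.ofMul (qtHom nP ⟨x, hx⟩) else 0
  have ρv : ∀ x ∈ P, ((Additive.toMul (ρ x) : qt (𝚽 P) P) : Quo (𝚽 P)) = qe (𝚽 P) x :=
    fun x hx => by simp only [ρ, dif_pos hx]; exact qtHom_apply nP _
  have ext : ∀ u v : V, ((Additive.toMul u : qt (𝚽 P) P) : Quo (𝚽 P)) = Additive.toMul v → u = v :=
    fun u v e => Additive.toMul.injective (Subtype.ext e)
  have ρm : ∀ x ∈ P, ∀ x' ∈ P, ρ (x * x') = ρ x + ρ x' := fun x hx x' hx' => ext _ _ (by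
    rw [toMul_add, coe_mul, ρv _ hx, ρv _ hx', ρv _ (P.mul_mem hx hx'), qe_mul (nP hx) (nP hx')])
  have ρs : ∀ v, ∃ x ∈ P, ρ x = v := fun v => by
    obtain ⟨x, hx, -, e⟩ := mem_qt.1 (Additive.toMul v).2
    exact ⟨x, hx, ext _ _ (by rw [ρv _ hx, e])⟩
  have ρk : ∀ x ∈ P, ρ x = 0 ↔ x ∈ 𝚽 P := fun x hx => by
    rw [← qe_eq_one (nP hx), ← ρv _ hx]
    exact ⟨fun e => by rw [e]; rfl, fun e => ext _ _ e⟩
  have yq : qe (𝚽 P) y ∈ 𝐍 (qt (𝚽 P) P) := qt_norm _ h.crit.norm (qe_mem_qt (mem_zpowers y) yn)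
  let η : V →+ V := AddMonoidHom.mk' (fun v => Additive.ofMul
    ⟨qe (𝚽 P) y * (Additive.toMul v : qt (𝚽 P) P) * (qe (𝚽 P) y)⁻¹, conj_mem_of_norm yq (Additive.toMul v).2⟩)
    fun u v => ext _ _ (by simp [V])
  have ρc : ∀ x ∈ P, ρ (y * x * y⁻¹) = η (ρ x) := fun x hx => ext _ _ (by
    rw [ρv _ (h.cj hx), qe_conj yn (nP hx), ← ρv _ hx]; rfl)
  have ρi : ∀ (n : ℕ), ∀ x ∈ P, y ^ n * x * (y ^ n)⁻¹ ∈ P ∧ ρ (y ^ n * x * (y ^ n)⁻¹) = η^[n] (ρ x) := by
    intro n x hx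
    induction n with
    | zero => simpa using hx
    | succ n ih =>
      rw [show y ^ (n + 1) * x * (y ^ (n + 1))⁻¹ = y * (y ^ n * x * (y ^ n)⁻¹) * y⁻¹ by group]
      exact ⟨h.cj ih.1, by rw [ρc _ ih.1, ih.2, Function.iterate_succ_apply']⟩
  have ρ1 : ρ 1 = 0 := (ρk 1 P.one_mem).2 (one_mem _)
  have ρn : ∀ x ∈ P, ρ x⁻¹ = -ρ x := fun x hx =>
    eq_neg_of_add_eq_zero_left (by rw [← ρm _ (P.inv_mem hx) _ hx, inv_mul_cancel, ρ1])
  have : Nontrivial V := by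
    obtain ⟨x, hx, x1⟩ := Set.not_subset.1 (Phi_lt h.crit.ne_bot).not_ge
    exact ⟨⟨ρ x, 0, fun e => x1 ((ρk x hx).1 e)⟩⟩
  obtain ⟨g, ξ, pr, bij, hg⟩ := f.iso (V := V) (fun v => ext _ _ (ab.pow _ (Additive.toMul v).2)) η
    (fun v => by
      obtain ⟨x, hx, rfl⟩ := ρs v
      rw [← (ρi q x hx).2, ← mem_cent.1 h.cq x hx, mul_inv_cancel_right])
    (by
      by_contra hh
      push Not at hh
      refine h.crit.nc (cent_of_comm_le_Phi h.crit.norm h.crit.cop ?_)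
      rw [commutator_comm]
      refine (le_centMod.1 (zpowers_le.2 (mem_centMod.2 ⟨yn, fun x hx => ?_⟩))).2
      rw [commutatorElement_def, ← ρk _ (P.mul_mem (h.cj hx) (P.inv_mem hx)),
        ρm _ (h.cj hx) _ (P.inv_mem hx), ρc _ hx, hh, ρn _ hx, add_neg_cancel])
    (fun U hU => by
      let R : Subgroup G :=
        { carrier := {x | x ∈ P ∧ ρ x ∈ U}
          one_mem' := ⟨P.one_mem, ρ1 ▸ U.zero_mem⟩
          mul_mem' := fun {x x'} hx hx' => ⟨P.mul_mem hx.1 hx'.1, by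
            rw [ρm _ hx.1 _ hx'.1]; exact U.add_mem hx.2 hx'.2⟩
          inv_mem' := fun {x} hx => ⟨P.inv_mem hx.1, by rw [ρn _ hx.1]; exact U.neg_mem hx.2⟩ }
      have l : R ≤ P := fun x hx => hx.1
      rcases l.eq_or_lt with e | e
      · refine Or.inr (eq_top_iff.2 fun v _ => ?_)
        obtain ⟨x, hx, rfl⟩ := ρs v
        exact (e.ge hx).2
      · have c := h.crit.min R e (zpowers_le.2 (mem_norm_of_cj_le fun z hz => by
          obtain ⟨x, hx, rfl⟩ := mem_cj_iff.1 hz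
          exact ⟨h.cj hx.1, by rw [ρc _ hx.1]; exact hU _ hx.2⟩))
        refine Or.inl (eq_bot_iff.2 fun v hv => ?_)
        obtain ⟨x, hx, rfl⟩ := ρs v
        exact (ρk x hx).2 (h.crit.Phi_eq ▸ h.crit.cent_le_der
          (mem_inf.2 ⟨hx, cent_symm c (show x ∈ R from ⟨hx, hv⟩)⟩)))
  have : NeZero q := ⟨f.qp.ne_zero⟩
  obtain ⟨m, hm, e⟩ := pr.eq_pow_of_pow_eq_one f.prim.pow_eq_one
  have m0 : m ≠ 0 := by
    rintro rfl
    exact f.prim.ne_one f.qp.one_lt (by simpa using e.symm)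
  have cop : (orderOf y).Coprime m := h.ord ▸ (Nat.coprime_of_lt_prime m0 hm f.qp).pow_left r
  have ez : zpowers (y ^ m) = zpowers y := eq_of_card_eq (zpowers_le.2 (pow_mem (mem_zpowers y) m))
    (by rw [Nat.card_zpowers, Nat.card_zpowers, cop.orderOf_pow])
  refine ⟨y ^ m, fun x => g (ρ x), ez, ⟨ez ▸ h.crit, cop.orderOf_pow.trans h.ord, by
    rw [← pow_mul, mul_comm, pow_mul]; exact pow_mem h.cq m⟩, fun x hx x' hx' => by
    rw [ρm x hx x' hx', map_add], fun v => ?_, fun x hx => by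
    rw [← ρk x hx, map_eq_zero_iff g bij.1], fun x hx => ?_⟩
  · obtain ⟨w, rfl⟩ := bij.2 v
    obtain ⟨x, hx, rfl⟩ := ρs w
    exact ⟨x, hx, rfl⟩
  · rw [(ρi m x hx).2, ← e]
    clear hm e m0 cop ez
    induction m with
    | zero => simp
    | succ m ih => rw [Function.iterate_succ_apply', hg, ih]; ring

namespace SG
variable (h : SG p q r ζ P y π)
include h

omit [Finite G] [Finite K] in
theorem one : π 1 = 0 := (h.ker 1 P.one_mem).2 (one_mem _)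

omit [Finite G] [Finite K] in
theorem inv {x : G} (hx : x ∈ P) : π x⁻¹ = -π x :=
  eq_neg_of_add_eq_zero_left (by rw [← h.mul _ (P.inv_mem hx) _ hx, inv_mul_cancel, h.one])

/-- the homomorphism -/
def hom : P →* Multiplicative K :=
  MonoidHom.mk' (fun x => Multiplicative.ofAdd (π x)) fun x x' => by
    rw [coe_mul, h.mul _ x.2 _ x'.2, ofAdd_add]

omit [Finite G] [Finite K] in
theorem hom_surj : Function.Surjective h.hom := fun v => by
  obtain ⟨x, hx, e⟩ := h.surj v.toAdd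
  exact ⟨⟨x, hx⟩, by change Multiplicative.ofAdd (π x) = v; rw [e]; rfl⟩

omit [Finite G] [Finite K] in
theorem card_eq : ♯P = ♯(𝚽 P) * Nat.card K := by
  have e : h.hom.ker = (𝚽 P).subgroupOf P := by
    ext x; exact h.ker x x.2
  rw [← h.hom.ker.card_mul_index, index_ker, MonoidHom.range_eq_top.2 h.hom_surj, card_top, e,
    card_subgroupOf' (Phi_le P)]
  rfl

omit [Finite K] in
theorem cen {x x' : G} (hx : x ∈ P) (hx' : x' ∈ P) : ⁅x, x'⁆ ∈ 𝐂 P :=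
  h.crit.Phi_cent (h.crit.pi.der_le_Phi (commutator_mem_commutator hx hx'))

omit [Finite K] in
theorem cm_right {x u w : G} (hx : x ∈ P) (hu : u ∈ P) (hw : w ∈ P) :
    ⁅x, u * w⁆ = ⁅x, u⁆ * ⁅x, w⁆ := by
  rw [show ⁅x, u * w⁆ = ⁅x, u⁆ * (u * ⁅x, w⁆ * u⁻¹) by simp only [commutatorElement_def]; group,
    mem_cent.1 (h.cen hx hw) u hu, mul_inv_cancel_right]

omit [Finite K] in
theorem cm_left {x u w : G} (hx : x ∈ P) (hu : u ∈ P) (hw : w ∈ P) :
    ⁅u * w, x⁆ = ⁅w, x⁆ * ⁅u, x⁆ := by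
  rw [← commutatorElement_inv, h.cm_right hx hu hw, mul_inv_rev, commutatorElement_inv,
    commutatorElement_inv]

omit [Finite K] in
theorem cm_congr {x u w : G} (hx : x ∈ P) (hu : u ∈ P) (hw : w ∈ P) (e : π u = π w) :
    ⁅x, u⁆ = ⁅x, w⁆ := by
  have h1 : w⁻¹ * u ∈ P := P.mul_mem (P.inv_mem hw) hu
  have h2 := (h.ker _ h1).1 (by rw [h.mul _ (P.inv_mem hw) _ hu, h.inv hw, e, neg_add_cancel])
  rw [show u = w * (w⁻¹ * u) by group, h.cm_right hx hw h1,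
    commutatorElement_eq_one_iff_mul_comm.2 (mem_cent.1 (h.crit.Phi_cent h2) x hx), mul_one]

omit [Finite K] in
theorem cm_conj {x u : G} (hx : x ∈ P) (hu : u ∈ P) :
    ⁅y * x * y⁻¹, y * u * y⁻¹⁆ = ⁅x, u⁆ := by
  have := mem_cent.1 (h.crit.cent_Phi (mem_zpowers y)) _
    (h.crit.pi.der_le_Phi (commutator_mem_commutator hx hu))
  rw [← conjugate_commutatorElement, ← this, mul_inv_cancel_right]

omit [Finite K] in
theorem pow_T (z0 : ζ ≠ 0) (n : ℕ) :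
    ∀ x ∈ P, ∀ u ∈ P, π u = (ζ + ζ⁻¹) ^ n * π x → ⁅x, u⁆ = 1 := by
  have cj' : ∀ x ∈ P, y⁻¹ * x * y ∈ P := fun x hx =>
    conj_mem_of_norm' (h.crit.norm (mem_zpowers y)) hx
  have e1 : ∀ x ∈ P, π (y⁻¹ * x * y) = ζ⁻¹ * π x := fun x hx => by
    have := h.conj _ (cj' x hx)
    rw [show y * (y⁻¹ * x * y) * y⁻¹ = x by group] at this
    rw [this, inv_mul_cancel_left₀ z0]
  let τ : G → G := fun x => (y * x * y⁻¹) * (y⁻¹ * x * y)
  have τm : ∀ x ∈ P, τ x ∈ P := fun x hx => P.mul_mem (h.cj hx) (cj' x hx)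
  have τπ : ∀ x ∈ P, π (τ x) = (ζ + ζ⁻¹) * π x := fun x hx => by
    rw [h.mul _ (h.cj hx) _ (cj' x hx), h.conj x hx, e1 x hx]; ring
  have a1 : ∀ x ∈ P, ∀ u ∈ P, ⁅y⁻¹ * x * y, u⁆ = ⁅x, y * u * y⁻¹⁆ := fun x hx u hu => by
    rw [← h.cm_conj (cj' x hx) hu, show y * (y⁻¹ * x * y) * y⁻¹ = x by group]
  have a2 : ∀ x ∈ P, ∀ u ∈ P, ⁅y * x * y⁻¹, u⁆ = ⁅x, y⁻¹ * u * y⁆ := fun x hx u hu => by
    rw [← h.cm_conj hx (cj' u hu), show y * (y⁻¹ * u * y) * y⁻¹ = u by group]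
  have adj : ∀ x ∈ P, ∀ u ∈ P, ⁅τ x, u⁆ = ⁅x, τ u⁆ := fun x hx u hu => by
    rw [h.cm_left hu (h.cj hx) (cj' x hx), h.cm_right hx (h.cj hu) (cj' u hu), a1 x hx u hu,
      a2 x hx u hu]
  induction n using Nat.twoStepInduction with
  | zero =>
    intro x hx u hu e
    rw [h.cm_congr hx hu hx (by simpa using e), commutatorElement_self]
  | one =>
    intro x hx u hu e
    rw [h.cm_congr hx hu (τm x hx) (by rw [τπ x hx, e, pow_one]),
      h.cm_right hx (h.cj hx) (cj' x hx), ← a2 x hx x hx, ← commutatorElement_inv x, mul_inv_cancel]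
  | more n ih _ =>
    intro x hx u hu e
    obtain ⟨w, hw, ew⟩ := h.surj ((ζ + ζ⁻¹) ^ (n + 1) * π x)
    rw [h.cm_congr hx hu (τm w hw) (by rw [τπ w hw, e, ew]; ring), ← adj x hx w hw]
    exact ih _ (τm x hx) w hw (by rw [τπ x hx, ew]; ring)

theorem card_Phi (f : Fd p q a ζ) : ♯(𝚽 P) = 1 ∨ (a % 2 = 0 ∧ ♯(𝚽 P) ≤ p ^ (a / 2)) := by
  obtain ⟨v, hv, v1⟩ := h.surj 1
  have nv : v ∉ 𝐂 (zpowers y) := fun c => one_ne_zero (α := K) (by
    rw [← v1, h.ker v hv, h.crit.Phi_eq]; exact h.crit.cent_le_der (mem_inf.2 ⟨hv, c⟩))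
  let c : P →* G := MonoidHom.mk' (fun x => ⁅v, (x : G)⁆) fun x x' => h.cm_right hv x.2 x'.2
  set U := Subring.closure {ζ + ζ⁻¹} with hU
  have l : (U.toAddSubgroup.toSubgroup).comap h.hom ≤ c.ker := by
    have : U.toAddSubgroup ≤ (c.ker.map h.hom).toAddSubgroup' := by
      intro t ht
      refine (AddSubgroup.closure_le _).2 ?_ (Subring.mem_closure_iff.1 ht)
      intro s hs
      obtain ⟨n, rfl⟩ := Submonoid.mem_closure_singleton.1 hs
      obtain ⟨x, hx, e⟩ := h.surj ((ζ + ζ⁻¹) ^ n)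
      exact ⟨⟨x, hx⟩, h.pow_T f.ne_zero n v hv x hx (by rw [e, v1, mul_one]),
        congrArg Multiplicative.ofAdd e⟩
    intro x hx
    obtain ⟨x', h1, h2⟩ := this hx
    exact (h.cm_congr hv x.2 x'.2 (Multiplicative.ofAdd.injective h2).symm).trans h1
  have d1 : ♯(𝚽 P) ≤ Nat.card c.range := card_le fun z hz => by
    obtain ⟨g, hg, rfl⟩ := h.crit.exists_comm hv nv (h.crit.Phi_eq ▸ hz)
    exact ⟨⟨g, hg⟩, rfl⟩
  have d2 : Nat.card c.range ≤ U.toAddSubgroup.index := by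
    rw [← index_ker, ← AddSubgroup.index_toSubgroup, ← index_comap_of_surjective _ h.hom_surj]
    exact index_antitone l
  have d3 := U.toAddSubgroup.card_mul_index
  rcases f.half with e | e
  · left
    rw [← hU] at e
    have : U.toAddSubgroup.index = 1 := by rw [e]; exact AddSubgroup.index_top
    have := card_pos' (𝚽 P)
    omega
  · right
    rw [← hU] at e
    have c0 : 0 < Nat.card U := Nat.card_pos
    have d4 : U.toAddSubgroup.index = Nat.card U :=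
      Nat.eq_of_mul_eq_mul_left c0 (by rw [← sq, ← e]; exact d3)
    have d : Nat.card U ∣ p ^ a := f.card ▸ U.toAddSubgroup.card_addSubgroup_dvd_card
    obtain ⟨b, -, eb⟩ := (Nat.dvd_prime_pow f.pp).1 d
    rw [f.card, eb, ← pow_mul] at e
    have := Nat.pow_right_injective f.pp.two_le e
    refine ⟨by omega, ?_⟩
    rw [show a / 2 = b by omega, ← eb]
    omega

theorem card_le (f : Fd p q a ζ) : ♯P ≤ p ^ (if a % 2 = 1 then a else 3 * a / 2) := by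
  rw [h.card_eq, f.card]
  rcases h.card_Phi f with e | ⟨e, e'⟩
  · rw [e, one_mul]
    exact Nat.pow_le_pow_right f.pp.pos (by split_ifs <;> omega)
  · rw [if_neg (by omega), show 3 * a / 2 = a / 2 + a by omega, pow_add]
    exact Nat.mul_le_mul_right _ e'

end SG
end CF.Th5
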